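import Cfsg.Agent.Lib.ZJ.Weak2

/-! Glauberman's and Thompson's theorems for fusion systems. -/

set_option autoImplicit false

namespace Cfsg.Agent.ZJF

open Cfsg Cfsg.FusionSystem Cfsg.Agent.Fus2

universe u

/-- `p` is odd or `F` is `Qd(p)`-free. -/
def OddOrFree (p : ℕ) {Ω : Type*} [Group Ω] {S : Subgroup Ω} (F : FusionSystem S) : Prop :=
  p ≠ 2 ∨ ¬ QF F (trH p).range

theorem exists_compl_fix {Γ V : Type*} [Group Γ] [Finite Γ] [CommGroup V] [Finite V]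
    (ρ : Γ → V →* V) (hρ : ∀ g h v, ρ (g * h) v = ρ g (ρ h v)) (U : Subgroup Γ)
    (hc : (Nat.card V).Coprime U.index) :
    ∃ τ : V →* V, (∀ v, (∀ u ∈ U, ρ u v = v) → ∀ g, ρ g (τ v) = τ v) ∧
      (∀ v, (∀ g, ρ g v = v) → τ v = 1 → v = 1) ∧
      ∀ v, (∀ g, ρ g v = v) → ∃ w ∈ Subgroup.zpowers v, τ w = v := by
  classical
  have := Fintype.ofFinite (Γ ⧸ U)
  have h1 : ∀ v, (∀ g, ρ g v = v) → (∏ q : Γ ⧸ U, ρ q.out) v = v ^ U.index := fun v hv => by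
    simp [hv, Subgroup.index, Nat.card_eq_fintype_card]
  refine ⟨∏ q : Γ ⧸ U, ρ q.out, fun v hv g => ?_, fun v hv h => ?_, fun v hv => ?_⟩
  · simp only [MonoidHom.finsetProd_apply, map_prod]
    refine Fintype.prod_equiv (MulAction.toPerm g) _ _ fun q => ?_
    obtain ⟨u, hu⟩ := QuotientGroup.mk_out_eq_mul U (g * q.out)
    rw [MulAction.toPerm_apply, ← MulAction.Quotient.mk_smul_out, smul_eq_mul, hu, hρ _ u, hv u u.2,
      hρ]
  · rw [h1 v hv] at h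
    have := pow_gcd_eq_one.2 ⟨pow_card_eq_one' (x := v), h⟩
    rwa [hc, pow_one] at this
  · obtain ⟨m, hm⟩ := exists_pow_eq_self_of_coprime (x := v) (n := U.index)
      (hc.coprime_dvd_left (orderOf_dvd_natCard v)).symm
    exact ⟨v ^ m, Subgroup.pow_mem _ (Subgroup.mem_zpowers v) m, by rw [map_pow, h1 v hv, hm]⟩

variable {p : ℕ} [Fact p.Prime] {Ω : Type u} [Group Ω] {S : Subgroup Ω} [Finite S]
  {F : FusionSystem S}

theorem oddOrFree_of (hS : IsPGroup p S) (hF : F.IsSaturated p)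
    (h : p ≠ 2 ∨ F.IsSectionFree p (Equiv.Perm (Fin 4))) : OddOrFree p F := by
  by_cases hp : p = 2
  · subst hp
    obtain ⟨q, ζ, hq⟩ := exists_qData 2
    exact Or.inr ((hq.sectionFree_iff hS hF).1 (sectionFree_s4_iff.1 (h.resolve_left fun h => h rfl)))
  · exact Or.inl hp

theorem fix_of_fixN_J (hS : IsPGroup p S) (hF : F.IsSaturated p) (h : OddOrFree p F) {z : Ω}
    (hzS : z ∈ S) (hz : ∀ s ∈ S, s * z * s⁻¹ = z) (hN : FixN F (ZJ.J S) z) : Fix F z := by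
  refine center_eq_of_local (W := jFun p) (center_le_jFun p) (Φ := fun F => OddOrFree p F)
    (fun F _ _ h U T D _ hD => h.imp_right fun h h' => h (h'.mono (IsNK.toM hD)))
    (fun F _ _ h _ _ S' D θ _ hθ => h.imp_right fun h h' => h (h'.of_quot hθ)) ?_ hS hF h hzS hz hN
  rintro Ω _ S _ F - - h G _ _ ι ⟨-, hι, hs, -⟩ P z h1 h2 h3
  obtain ⟨q, ζ, hq⟩ := exists_qData p
  exact ZJ.conj_eq_of_normalizer_J (h.imp_right fun h h' =>
    h (hq.qf_of_involves (emb_of_realized hι) (Asch.isSylowIn_range hs) h')) (Tr.SylowIn.top P)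
    h1 h2 h3

theorem isCentral_Zc (hS : IsPGroup p S) (hF : F.IsSaturated p) (h : OddOrFree p F)
    (hJ : Good F (innerFusionSystem S) (ZJ.J S)) : F.IsCentral (ZJ.Zc S) := by
  refine isCentral_mono (isCentral_center F) fun z hz => ?_
  have hz' : ∀ s ∈ S, s * z * s⁻¹ = z := fun s hs => by
    rw [(mem_Zc.1 hz).2 s hs, mul_inv_cancel_right]
  refine mem_center_of_fix hS hF hz.1 (fix_of_fixN_J hS hF h hz.1 hz' fun P f hf h1 h2 h3 hP => ?_)
  obtain ⟨-, s, hs, e⟩ := M_inner_iff.1 (hJ P f hf h1 h2 h3)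
  rw [e z hP, hz' s hs]

theorem tClass_oddOrFree (p : ℕ) [Fact p.Prime] : TClass.{u} p (fun F => OddOrFree p F) :=
  ⟨fun _ _ hD h => h.imp_right fun h h' => h (h'.mono hD),
    fun _ _ _ hθ h => h.imp_right fun h h' => h (h'.of_quot hθ), fun _ hS hF h hJ hZ => by
      rw [zFun_w] at hZ
      exact hZ.le_of_normal (isNormal_of_isCentral (isCentral_Zc hS hF h hJ))⟩

theorem mem_center_iff_aut (hS : IsPGroup p S) (hF : F.IsSaturated p) (h : OddOrFree p F) {z : Ω}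
    (hz : z ∈ ZJ.Zc S) : z ∈ F.center ↔ ∀ α ∈ F.autGroup (ZJ.J S), afn α z = z := by
  have hzJ := ZJ.Zc_le_J S hz
  refine ⟨fun h1 α hα => fix_of_mem_center h1 _ _ ((mem_autGroup_iff (ZJ.J_le S)).1 hα) hzJ,
    fun h1 => mem_center_of_fix hS hF hz.1 (fix_of_fixN_J hS hF h hz.1 (fun s hs => by
      rw [(mem_Zc.1 hz).2 s hs, mul_inv_cancel_right]) fun P f hf h2 _ h3 _ => ?_)⟩
  obtain ⟨α, hα, e⟩ := (hf.mono h2).exists_aut' h3
  rw [← e z hzJ, h1 α hα]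

open scoped IsMulCommutative in
theorem exists_compl_center (hS : IsPGroup p S) (hF : F.IsSaturated p) (h : OddOrFree p F) :
    ∃ K : Subgroup Ω, K ≤ ZJ.Zc S ∧ F.center ⊓ K = ⊥ ∧ F.center ⊔ K = ZJ.Zc S := by
  have hJ := ZJ.J_le S
  have hV : ZJ.Zc (ZJ.J S) ≤ S := inf_le_left.trans hJ
  have := finite_of_le hJ
  have := finite_of_le hV
  have := ZJ.isMulCommutative_Zc (ZJ.J S)
  have hZ : ZJ.Zc S ≤ ZJ.Zc (ZJ.J S) := ZJ.Zc_le_ZJ S
  have hC : F.center ≤ ZJ.Zc S := fun z hz =>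
    mem_Zc.2 ⟨center_le F hz, fun s hs => isCentral_comm (isCentral_center F) hz hs⟩
  let ρ : F.autGroup (ZJ.J S) → ZJ.Zc (ZJ.J S) →* ZJ.Zc (ZJ.J S) := fun α =>
    MonoidHom.mk' (fun v => ⟨afn α.1 v, afn_mem_Zc α.1 v.2⟩) fun v w =>
      Subtype.ext ((homOn_afn α.1).map_mul v.2.1 w.2.1)
  have hs := Fus.sat_sylow hS hF (Fus.isFullyNormalized_of_normal hJ
    (Subgroup.le_normalizer.trans (ZJ.normalizer_le_normalizer_J S)))
  obtain ⟨τ, h1, h2, h3⟩ := exists_compl_fix ρ (fun g h v => Subtype.ext (afn_mul g.1 h.1 v))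
    ((autInducedBy S (ZJ.J S)).subgroupOf _) (by
      obtain ⟨n, hn⟩ := (Fus.isPGroup_of_le hS hV).exists_card_eq
      rw [hn]
      exact ((Nat.Prime.coprime_iff_not_dvd Fact.out).2 hs.not_dvd_relIndex).pow_left n)
  have h4 : ∀ v : ZJ.Zc (ZJ.J S), (v : Ω) ∈ F.center ↔ ∀ g, ρ g v = v := fun v =>
    ⟨fun hv g => Subtype.ext ((mem_center_iff_aut hS hF h (hC hv)).1 hv g.1 g.2), fun hv =>
      (mem_center_iff_aut hS hF h (mem_Zc.2 ⟨hV v.2, fun s hs => by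
        have hn := ZJ.normalizer_le_normalizer_J S (Subgroup.le_normalizer hs)
        have := congrArg Subtype.val (hv ⟨_, Fus.autInducedBy_le_autGroup hJ
          (Fus.conjAut_mem_autInducedBy hs hn)⟩)
        exact mul_inv_eq_iff_eq_mul.1 ((afn_conjAut hn v.2.1).symm.trans this)⟩)).2
        fun α hα => congrArg Subtype.val (hv ⟨α, hα⟩)⟩
  refine ⟨ZJ.Zc S ⊓ τ.ker.map (ZJ.Zc (ZJ.J S)).subtype, inf_le_left, eq_bot_iff.2 ?_,
    le_antisymm (sup_le hC inf_le_left) fun z hz => ?_⟩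
  · rintro _ ⟨h5, -, v, hv, rfl⟩
    rw [h2 v ((h4 v).1 h5) hv]; exact Subgroup.one_mem _
  · have h5 := h1 ⟨z, hZ hz⟩ fun u hu => Subtype.ext (by
      obtain ⟨s, hs, e⟩ := mem_autInducedBy_iff.1 hu
      exact (e z (hZ hz).1).trans (by rw [(mem_Zc.1 hz).2 s hs, mul_inv_cancel_right]))
    obtain ⟨w, hw, e⟩ := h3 _ h5
    have h6 : (w : Ω) ∈ F.center := by
      obtain ⟨k, rfl⟩ := hw
      exact F.center.zpow_mem ((h4 _).2 h5) k
    rw [← mul_inv_cancel_left (w : Ω) z]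
    refine Subgroup.mul_mem_sup h6 ⟨Subgroup.mul_mem _ (Subgroup.inv_mem _ (hC h6)) hz,
      w⁻¹ * ⟨z, hZ hz⟩, ?_, rfl⟩
    show τ _ = 1
    rw [map_mul, map_inv, e, inv_mul_cancel]

end Cfsg.Agent.ZJF
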