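import Cfsg.Agent.Lib.Biset.PIndex
import Cfsg.Agent.Lib.Fus2.Prod
import Cfsg.Agent.Lib.Fus2.Hyper
import Cfsg.Agent.Lib.Fit.Frattini
import Cfsg.Agent.Lib.Solv.SylowIn

/-!
Tate's theorem for fusion systems, by Brandis' twisted transfer on a characteristic biset of the
subsystem of `F × F` over `{(s, t) | s ≡ t mod hyp F}`.
-/

set_option autoImplicit false

namespace Cfsg.Agent.ZJF

open Cfsg Cfsg.FusionSystem Cfsg.Agent Cfsg.Agent.Fus2 MulAction
open scoped commutatorElement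

universe u

section Twisted

variable {X : Type*} {A : Type*} [CommGroup A] {T : Type*} [Group T]

/-- `g` normalizes the action `ρ`, compatibly with `μ`. -/
def Tw (ρ : T →* Equiv.Perm X) (μ : T →* A) (g : Equiv.Perm X) : Prop :=
  ∀ t, ∃ t', μ t' = μ t ∧ ∀ x, g (ρ t x) = ρ t' (g x)

/-- The permutations normalizing the action `ρ` compatibly with `μ`. -/
def twGroup (ρ : T →* Equiv.Perm X) (μ : T →* A) : Subgroup (Equiv.Perm X) where
  carrier := {g | Tw ρ μ g ∧ Tw ρ μ g⁻¹}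
  one_mem' := ⟨fun t => ⟨t, rfl, fun _ => rfl⟩, fun t => ⟨t, rfl, fun _ => rfl⟩⟩
  mul_mem' := by
    have key : ∀ a b : Equiv.Perm X, Tw ρ μ a → Tw ρ μ b → Tw ρ μ (a * b) := by
      intro a b ha hb t
      obtain ⟨t', e1, h1⟩ := hb t
      obtain ⟨t'', e2, h2⟩ := ha t'
      exact ⟨t'', e2.trans e1, fun x => by simp only [Equiv.Perm.mul_apply, h1, h2]⟩
    intro a b ha hb
    exact ⟨key _ _ ha.1 hb.1, by rw [mul_inv_rev]; exact key _ _ hb.2 ha.2⟩
  inv_mem' := fun h => ⟨h.2, by rw [inv_inv]; exact h.1⟩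

theorem exists_twDeg [Finite X] (ρ : T →* Equiv.Perm X) (μ : T →* A)
    (hfree : ∀ t x, ρ t x = x → μ t = 1) :
    ∃ Φ : twGroup ρ μ →* A, ∀ (g : twGroup ρ μ) (t : T), (g : Equiv.Perm X) = ρ t →
      Φ g = μ t ^ Biset.ocard (Biset.orb ρ) Set.univ := by
  obtain ⟨κ, hκ⟩ := Biset.exists_weight ρ μ (Biset.sat_univ (Biset.orb ρ))
    fun t x _ h => hfree t x h
  have hinv : ∀ g : Equiv.Perm X, Tw ρ μ g →
      Biset.Inv (Biset.orb ρ) Set.univ fun x => κ (g x) / κ x := by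
    intro g hg
    refine Biset.inv_orb fun t x _ => ?_
    obtain ⟨t', e, h⟩ := hg t
    rw [h, hκ t' _ trivial, hκ t _ trivial, e, mul_div_mul_left_eq_div]
  refine ⟨MonoidHom.mk' (fun g => Biset.deg ρ κ Set.univ g) ?_, ?_⟩
  · rintro ⟨h, hh⟩ ⟨g, hg⟩
    unfold Biset.deg
    have h1 := Biset.oprod_bij (Biset.sat_univ (Biset.orb ρ)) (Biset.sat_univ (Biset.orb ρ)) g
      (fun _ _ => trivial) (fun x _ y _ => ⟨?_, ?_⟩)
      (fun y _ => ⟨g.symm y, trivial, by simp⟩) (hinv h hh.1)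
    · rw [← h1, ← Biset.oprod_mul]
      refine Biset.oprod_congr fun x _ => ?_
      simp
    · rintro ⟨t, rfl⟩
      obtain ⟨t', -, e⟩ := hg.1 t
      exact ⟨t', (e x).symm⟩
    · rintro ⟨t, ht⟩
      obtain ⟨t', -, e⟩ := hg.2 t
      refine ⟨t', ?_⟩
      have := e (g x)
      rw [ht] at this
      simpa using this.symm
  · rintro ⟨g, hg⟩ t (rfl : g = ρ t)
    change Biset.oprod (Biset.orb ρ) Set.univ (fun x => κ (ρ t x) / κ x) = _
    refine Biset.oprod_eq_pow fun x _ => ?_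
    rw [hκ t x trivial, mul_div_cancel_right]

end Twisted

variable {Ω : Type u} [Group Ω] {S : Subgroup Ω} {F : FusionSystem S} {p : ℕ}

/-- The pairs of elements of `S` congruent modulo `U`. -/
def congSub (S U : Subgroup Ω) (hU : ∀ s ∈ S, ∀ x ∈ U, s * x * s⁻¹ ∈ U) : Subgroup (Ω × Ω) where
  carrier := {x | x.1 ∈ S ∧ x.2 ∈ S ∧ x.1⁻¹ * x.2 ∈ U}
  one_mem' := ⟨S.one_mem, S.one_mem, by simp⟩
  mul_mem' := by
    rintro ⟨a, b⟩ ⟨c, d⟩ ⟨h1, h2, h3⟩ ⟨h4, h5, h6⟩
    refine ⟨S.mul_mem h1 h4, S.mul_mem h2 h5, ?_⟩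
    have := U.mul_mem (hU _ (S.inv_mem h4) _ h3) h6
    simpa [mul_assoc] using this
  inv_mem' := by
    rintro ⟨a, b⟩ ⟨h1, h2, h3⟩
    refine ⟨S.inv_mem h1, S.inv_mem h2, ?_⟩
    have := U.inv_mem (hU _ h1 _ h3)
    simpa [mul_assoc] using this

theorem hyp_prod_le : (prodSystem F F).hyperfocalSubgroup p ≤
    (F.hyperfocalSubgroup p).prod (F.hyperfocalSubgroup p) := by
  intro x hx
  have hxS : x ∈ S.prod S := hyp_le _ _ hx
  have h1 := hyp_push (F := prodSystem F F) (E := F) (p := p)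
    (θ := (MonoidHom.fst Ω Ω).comp (S.prod S).subtype) (fun P f hf => by
      have hP := hf.le
      obtain ⟨f₁, f₂, h₁, -, e⟩ := M_prodSystem_iff.1 hf
      refine ⟨f₁, h₁.mono (img_le_iff.2 fun y hy => ?_), fun y hy => ?_⟩
      · rw [fn_apply _ (hP hy)]; exact fst_mem_pr1 hy
      · rw [fn_apply _ (hP hy), fn_apply _ (hf.mem hy)]
        simp [e y hy]) hx
  have h2 := hyp_push (F := prodSystem F F) (E := F) (p := p)
    (θ := (MonoidHom.snd Ω Ω).comp (S.prod S).subtype) (fun P f hf => by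
      have hP := hf.le
      obtain ⟨f₁, f₂, -, h₂, e⟩ := M_prodSystem_iff.1 hf
      refine ⟨f₂, h₂.mono (img_le_iff.2 fun y hy => ?_), fun y hy => ?_⟩
      · rw [fn_apply _ (hP hy)]; exact snd_mem_pr2 hy
      · rw [fn_apply _ (hP hy), fn_apply _ (hf.mem hy)]
        simp [e y hy]) hx
  rw [fn_apply _ hxS] at h1 h2
  exact ⟨h1, h2⟩

/-- A power, prime to `p`, of an `S`-invariant homomorphism on the hyperfocal subgroup extends
to `S`. -/
theorem tate_core [Finite S] [Fact p.Prime] (hS : IsPGroup p S) (hF : F.IsSaturated p)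
    {A : Type*} [CommGroup A] (l : F.hyperfocalSubgroup p →* A)
    (hl : ∀ (s : Ω), s ∈ S → ∀ u v : F.hyperfocalSubgroup p, (v : Ω) = s * u * s⁻¹ → l v = l u) :
    ∃ n : ℕ, ¬ p ∣ n ∧ ∃ φ : S →* A, ∀ (s : S) (u : F.hyperfocalSubgroup p), (s : Ω) = u →
      φ s = l u ^ n := by
  classical
  let U := F.hyperfocalSubgroup p
  have hUS : U ≤ S := hyp_le F p
  have hUn : ∀ s ∈ S, ∀ x ∈ U, s * x * s⁻¹ ∈ U := fun s hs x hx => conj_mem_hyp hs hx
  let D := congSub S U hUn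
  have hDS : D ≤ S.prod S := fun x hx => ⟨hx.1, hx.2.1⟩
  have : Finite (S.prod S) := finite_prod
  have : Finite D := finite_of_le hDS
  have hSS : IsPGroup p (S.prod S) := isPGroup_prod hS hS
  have hD : IsPGroup p D := hSS.to_le hDS
  obtain ⟨E, hE, hEi⟩ := Biset.exists_pPowerIndex (p := p) D _ (S.prod S) hSS (prodSystem F F)
    (prod_saturated hS hS hF hF) hDS (fun x hx => by
      have h := hyp_prod_le hx
      exact ⟨hUS h.1, hUS h.2, U.mul_mem (U.inv_mem h.1) h.2⟩) rfl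
  obtain ⟨hEsub, -, hEaut⟩ := Biset.hasPPowerIndexIn_iff.1 hEi
  obtain ⟨X, _, hX⟩ := Biset.exists_isCharBiset hD E hE
  have := hX.finite
  let j₁ : U →* D :=
    { toFun := fun u => ⟨(1, u), S.one_mem, hUS u.2, by simp⟩
      map_one' := rfl
      map_mul' := fun a b => Subtype.ext (Prod.ext (by simp) rfl) }
  let j₂ : S →* D :=
    { toFun := fun s => ⟨(s, s), s.2, s.2, by simp⟩
      map_one' := rfl
      map_mul' := fun a b => rfl }
  let ρ : U × S →* Equiv.Perm X := (toPermHom (D × D) X).comp (j₁.prodMap j₂)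
  have hρ : ∀ (t : U × S) (x : X),
      ρ t x = Biset.lact D X (j₁ t.1) (Biset.ract D X (j₂ t.2) x) := fun t x =>
    Biset.smul_eq_lact_ract _ _ _
  let μ : U × S →* A := l.comp (MonoidHom.fst U S)
  have hfree : ∀ (t : U × S) (x : X), ρ t x = x → t = 1 := by
    rintro ⟨u, s⟩ x h
    obtain ⟨f, hf, e⟩ := Biset.exists_pmap hX.stab x
    rw [hρ] at h
    obtain ⟨h1, h2⟩ := (e _ _).1 h
    have hf' : M (prodSystem F F) _ f := isSubsystemOf_iff.1 hEsub _ _ hf
    obtain ⟨f₁, f₂, h₁, h₂, e'⟩ := M_prodSystem_iff.1 hf'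
    rw [e' _ h1] at h2
    have h3 : f₁ 1 = s := congrArg Prod.fst h2
    have h4 : f₂ u = s := congrArg Prod.snd h2
    rw [h₁.map_one] at h3
    rw [← h3, ← h₂.map_one] at h4
    have h5 := h₂.inj _ (snd_mem_pr2 h1) _ (Subgroup.one_mem _) h4
    exact Prod.ext (Subtype.ext h5) (Subtype.ext h3.symm)
  obtain ⟨Φ, hΦ⟩ := exists_twDeg ρ μ fun t x h => by rw [hfree t x h, map_one]
  obtain ⟨n, hn, hpn⟩ := hX.card
  have hcard : Biset.ocard (Biset.orb ρ) Set.univ = n := by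
    have h1 := Biset.ocard_mul_card (ρ := ρ) (Biset.sat_univ _) fun t x _ h => hfree t x h
    have h2 : Nat.card (U × S) = Nat.card D := by
      refine Nat.card_congr
        { toFun := fun t => ⟨(t.2, t.2 * t.1), t.2.2, S.mul_mem t.2.2 (hUS t.1.2), by simp⟩
          invFun := fun d => (⟨d.1.1⁻¹ * d.1.2, d.2.2.2⟩, ⟨d.1.1, d.2.1⟩)
          left_inv := fun t => by simp
          right_inv := fun d => by simp }
    rw [Set.ncard_univ, hn, h2] at h1
    exact Nat.eq_of_mul_eq_mul_right Nat.card_pos h1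
  rw [hcard] at hΦ
  have hlact : ∀ d : D, Biset.lact D X d ∈ twGroup ρ μ := by
    have key : ∀ d : D, Tw ρ μ (Biset.lact D X d) := by
      rintro d ⟨u, s⟩
      refine ⟨(⟨d.1.2 * u * d.1.2⁻¹, hUn _ d.2.2.1 _ u.2⟩, s), hl _ d.2.2.1 _ _ rfl, fun x => ?_⟩
      rw [hρ, hρ, ← Biset.lact_ract, ← Equiv.Perm.mul_apply (Biset.lact D X d), ← map_mul,
        ← Equiv.Perm.mul_apply (Biset.lact D X (j₁ _)), ← map_mul]
      congr 2
      refine Subtype.ext (Prod.ext ?_ ?_)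
      · change d.1.1 * 1 = 1 * d.1.1
        simp
      · change d.1.2 * u = d.1.2 * u * d.1.2⁻¹ * d.1.2
        simp
    intro d
    exact ⟨key d, by rw [← map_inv]; exact key _⟩
  let Ψ : D →* A := Φ.comp ((Biset.lact D X).codRestrict _ hlact)
  have hΨ₁ : ∀ u : U, Ψ (j₁ u) = l u ^ n := fun u =>
    hΦ _ (u, 1) (by
      ext x
      rw [hρ]
      simp)
  let k : U →* D :=
    { toFun := fun u => ⟨(u, 1), hUS u.2, S.one_mem, by simp⟩
      map_one' := rfl
      map_mul' := fun a b => Subtype.ext (Prod.ext rfl (by simp)) }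
  have hk : ∀ u : U, Ψ (k u) = 1 := by
    have : U ≤ ((Ψ.comp k).ker).map U.subtype := by
      refine hyp_le_iff.2 fun P hP α hα hc x hx => ?_
      have hαM : M F P (afn α) := (mem_autGroup_iff hP).1 hα
      have hmod : ∀ y ∈ P, y⁻¹ * afn α y ∈ U := fun y hy => mem_hyp_of_coprime hP hα hc hy
      let Q : Subgroup (Ω × Ω) := D ⊓ P.prod S
      have hQ : M (prodSystem F F) Q (fun y => (afn α y.1, y.2)) :=
        M_prod hαM (M_id F le_rfl) inf_le_right
      have hQQ : ∀ y ∈ Q, (afn α y.1, y.2) ∈ Q := by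
        rintro ⟨a, b⟩ ⟨⟨h1, h2, h3⟩, h4, h5⟩
        refine ⟨⟨hP (afn_mem α h4), h2, ?_⟩, afn_mem α h4, h5⟩
        have := U.mul_mem (U.inv_mem (hmod a h4)) h3
        simpa [mul_assoc] using this
      obtain ⟨β, hβ, eβ⟩ := hQ.exists_aut' hQQ
      have hβc : (orderOf β).Coprime p := by
        refine Nat.Coprime.coprime_dvd_left (orderOf_dvd_of_pow_eq_one ?_) hc
        have h1 : ∀ m : ℕ, ∀ y ∈ Q, afn (β ^ m) y = (afn (α ^ m) y.1, y.2) := by
          intro m
          induction m with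
          | zero => intro y _; simp [afn_one]
          | succ m ih =>
            intro y hy
            rw [pow_succ', afn_mul, ih y hy, pow_succ', afn_mul]
            have h2 := afn_mem (β ^ m) hy
            rw [ih y hy] at h2
            exact eβ _ h2
        refine aut_ext fun y hy => ?_
        rw [h1 _ y hy, pow_orderOf_eq_one, afn_one, afn_one]
      have hEβ : M E Q (afn β) := (mem_autGroup_iff inf_le_left).1 (hEaut Q inf_le_left β hβ hβc)
      obtain ⟨g, hg, hgr⟩ := Biset.exists_realizes hX.stab hX.stable hEβ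
      have hgc : ∀ (t : U × S) (x : X), g (ρ t x) = ρ t (g x) := by
        rintro ⟨u, s⟩ x
        have hu : ((j₁ u : D) : Ω × Ω) ∈ Q := ⟨(j₁ u).2, P.one_mem, hUS u.2⟩
        rw [hρ, hρ, hgr (j₁ u) (j₁ u) hu ?_, Biset.mem_rcomm.1 hg]
        rw [eβ _ hu]
        exact Prod.ext (homOn_afn α).map_one rfl
      have hgΓ : g ∈ twGroup ρ μ := by
        refine ⟨fun t => ⟨t, rfl, hgc t⟩, fun t => ⟨t, rfl, fun x => ?_⟩⟩
        apply g.injective
        rw [hgc]
        simp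
      have hxQ : (x, x) ∈ Q := ⟨⟨hP hx, hP hx, by simp⟩, hx, hP hx⟩
      let a : D := ⟨(x, x), hxQ.1⟩
      let b : D := ⟨(afn α x, x), (hQQ _ hxQ).1⟩
      have hab : Ψ b = Ψ a := by
        have h1 := hgr a b hxQ (eβ _ hxQ)
        have h2 : (⟨g, hgΓ⟩ : twGroup ρ μ) * ((Biset.lact D X).codRestrict _ hlact a) =
            ((Biset.lact D X).codRestrict _ hlact b) * ⟨g, hgΓ⟩ :=
          Subtype.ext (Equiv.ext h1)
        have h3 := congrArg Φ h2
        rw [map_mul, map_mul, mul_comm] at h3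
        exact (mul_right_cancel h3).symm
      refine ⟨⟨_, hmod x hx⟩, ?_, rfl⟩
      have h4 : k ⟨_, hmod x hx⟩ = a⁻¹ * b := Subtype.ext (Prod.ext rfl (by simp [a, b, k]))
      change Ψ (k _) = 1
      rw [h4, map_mul, map_inv, hab, inv_mul_cancel]
    intro u
    obtain ⟨v, hv, e⟩ := this u.2
    rw [← show v = u from Subtype.ext e]
    exact hv
  refine ⟨n, hpn, Ψ.comp j₂, fun s u e => ?_⟩
  have h5 : j₂ s = k u * j₁ u := Subtype.ext (Prod.ext (by simp [j₂, k, j₁, e]) (by simp [j₂, k, j₁, e]))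
  rw [MonoidHom.comp_apply, h5, map_mul, hk, hΨ₁, one_mul]

theorem commutator_le_map_frattini [Finite S] [Fact p.Prime] (hS : IsPGroup p S) :
    ⁅S, S⁆ ≤ (frattini S).map S.subtype := by
  refine Subgroup.commutator_le.2 fun a ha b hb => ⟨⁅(⟨a, ha⟩ : S), (⟨b, hb⟩ : S)⁆, ?_, rfl⟩
  exact Fit.commutator_le_frattini hS (Subgroup.commutator_mem_commutator trivial trivial)

theorem le_of_le_sup_commutator_of_normal [Finite S] [Fact p.Prime] (hS : IsPGroup p S)
    {U V : Subgroup Ω} (hUS : U ≤ S) (hV : V ≤ U) (hVn : ∀ s ∈ S, ∀ x ∈ V, s * x * s⁻¹ ∈ V)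
    (hUn : ∀ s ∈ S, ∀ x ∈ U, s * x * s⁻¹ ∈ U) (h : U ≤ V ⊔ ⁅U, S⁆) : U ≤ V := by
  have hVS := hV.trans hUS
  have hn : (V.subgroupOf S).Normal := ⟨fun x hx s => hVn s s.2 x hx⟩
  have hUn' : (U.subgroupOf S).Normal := ⟨fun x hx s => hUn s s.2 x hx⟩
  let π := QuotientGroup.mk' (V.subgroupOf S)
  have hQ : IsPGroup p (S ⧸ V.subgroupOf S) := hS.to_quotient _
  have hnm : ((U.subgroupOf S).map π).Normal := hUn'.map π (QuotientGroup.mk'_surjective _)
  have h1 : (U.subgroupOf S).map π = ⊥ := by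
    by_contra hne
    have h2 := Solv.commutator_lt_of_pgroup (P := ⊤) (hQ.to_subgroup _) (hQ.to_subgroup _)
      (by rw [Subgroup.normalizer_eq_top]) hne
    refine h2.not_ge ?_
    have h3 : U.subgroupOf S ≤ V.subgroupOf S ⊔ ⁅U.subgroupOf S, ⊤⁆ := by
      rw [← Subgroup.map_le_map_iff_of_injective S.subtype_injective, Subgroup.map_sup,
        Subgroup.map_commutator, Subgroup.map_subgroupOf_eq_of_le hUS,
        Subgroup.map_subgroupOf_eq_of_le hVS, ← MonoidHom.range_eq_map, Subgroup.range_subtype]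
      exact h
    refine (Subgroup.map_mono h3).trans ?_
    rw [Subgroup.map_sup, Fit.map_mk'_self, bot_sup_eq, Subgroup.map_commutator]
    exact Subgroup.commutator_mono le_rfl le_top
  rw [Subgroup.map_eq_bot_iff, QuotientGroup.ker_mk'] at h1
  intro x hx
  exact h1 (show (⟨x, hUS hx⟩ : S) ∈ U.subgroupOf S from hx)

/-- Tate's theorem, core form: a normal subgroup `V ≤ hyp F` of `S` with `hyp F ≤ Φ(S) V` equals
`hyp F`. -/
theorem hyp_le_of_le_frattini_sup [Finite S] [Fact p.Prime] (hS : IsPGroup p S)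
    (hF : F.IsSaturated p) {V : Subgroup Ω} (hV : V ≤ F.hyperfocalSubgroup p)
    (h : F.hyperfocalSubgroup p ≤ (frattini S).map S.subtype ⊔ V)
    (hVn : ∀ s ∈ S, ∀ x ∈ V, s * x * s⁻¹ ∈ V) :
    F.hyperfocalSubgroup p ≤ V := by
  by_contra hn
  let U := F.hyperfocalSubgroup p
  have hUS : U ≤ S := hyp_le F p
  have hUn : ∀ s ∈ S, ∀ x ∈ U, s * x * s⁻¹ ∈ U := fun s hs x hx => conj_mem_hyp hs hx
  have : Finite U := finite_of_le hUS
  have hU : IsPGroup p U := hS.to_le hUS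
  have hlt : ¬ U ≤ V ⊔ ⁅U, S⁆ := fun hle => hn (le_of_le_sup_commutator_of_normal hS hUS hV hVn hUn hle)
  obtain ⟨W, hW, hVW⟩ := Fit.exists_coatom_ge (H := (V ⊔ ⁅U, S⁆).subgroupOf U) (by
    intro e
    exact hlt (Subgroup.subgroupOf_eq_top.1 e))
  have := Fit.normal_of_isCoatom hU hW
  have hWi := Fit.index_eq_prime_of_isCoatom hU hW
  have hcyc : IsCyclic (U ⧸ W) := isCyclic_of_prime_card (p := p) hWi
  let _ : CommGroup (U ⧸ W) := IsCyclic.commGroup
  obtain ⟨n, hpn, φ, hφ⟩ := tate_core hS hF (A := U ⧸ W) (QuotientGroup.mk' W) (by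
    intro s hs u v e
    change ((v : U) : U ⧸ W) = (u : U)
    rw [eq_comm, QuotientGroup.eq]
    apply hVW
    rw [Subgroup.mem_subgroupOf]
    apply Subgroup.mem_sup_right
    have := Subgroup.commutator_mem_commutator (U.inv_mem u.2) hs
    simpa [commutatorElement_def, e, mul_assoc] using this)
  have hpow : ∀ a : U ⧸ W, a ^ p = 1 := fun a => by
    rw [← hWi]; exact pow_card_eq_one'
  have h1 : (frattini S).map S.subtype ⊔ V ≤ φ.ker.map S.subtype := by
    refine sup_le (Subgroup.map_mono ((Fit.frattini_le_iff hS).2 ⟨?_, fun x => ?_⟩)) fun v hv => ?_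
    · exact Abelianization.commutator_subset_ker φ
    · rw [MonoidHom.mem_ker, map_pow, hpow]
    · refine ⟨⟨v, hUS (hV hv)⟩, ?_, rfl⟩
      change φ _ = 1
      rw [hφ _ ⟨v, hV hv⟩ rfl]
      have : QuotientGroup.mk' W ⟨v, hV hv⟩ = 1 :=
        (QuotientGroup.eq_one_iff _).2 (hVW (Subgroup.mem_sup_left hv))
      rw [this, one_pow]
  apply hW.1
  rw [eq_top_iff]
  intro u _
  obtain ⟨s, hs, e⟩ := h1 (h u.2)
  have h2 : φ s = 1 := hs
  rw [hφ s u e] at h2
  have h3 : orderOf (QuotientGroup.mk' W u) ∣ Nat.gcd p n :=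
    Nat.dvd_gcd (orderOf_dvd_of_pow_eq_one (hpow _)) (orderOf_dvd_of_pow_eq_one h2)
  rw [((Nat.Prime.coprime_iff_not_dvd Fact.out).2 hpn).gcd_eq_one, Nat.dvd_one,
    orderOf_eq_one_iff] at h3
  exact (QuotientGroup.eq_one_iff _).1 h3

/-- Tate's theorem for fusion systems. -/
theorem hyp_eq_of_frattini_sup_foc [Finite S] [Fact p.Prime] (hS : IsPGroup p S)
    (hF : F.IsSaturated p) {H : FusionSystem S} (hH : H.IsSaturated p) (hHF : H.IsSubsystemOf F)
    (h : F.hyperfocalSubgroup p ≤ (frattini S).map S.subtype ⊔ H.focalSubgroup) :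
    F.hyperfocalSubgroup p = H.hyperfocalSubgroup p := by
  refine le_antisymm (hyp_le_of_le_frattini_sup hS hF (hyp_mono hHF) (h.trans ?_)
    fun s hs x hx => conj_mem_hyp hs hx) (hyp_mono hHF)
  rw [foc_eq_hyp_sup hS hH]
  refine sup_le le_sup_left (sup_le le_sup_right (le_trans ?_ le_sup_left))
  exact commutator_le_map_frattini hS

end Cfsg.Agent.ZJF
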