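import Cfsg.Agent.Lib.ZJ.Tate
import Cfsg.Agent.Lib.ZJ.Inner

/-! Consequences of Tate's theorem for fusion systems. -/

set_option autoImplicit false

namespace Cfsg.Agent.ZJF

open Cfsg Cfsg.FusionSystem Cfsg.Agent Cfsg.Agent.Fus2
open scoped commutatorElement

variable {Ω : Type*} [Group Ω] {S : Subgroup Ω} {F : FusionSystem S} {p : ℕ}
  [Finite S] [Fact p.Prime] (hS : IsPGroup p S) (hF : F.IsSaturated p)

include hS hF

theorem inner_of_hyp_le_frattini (h : F.hyperfocalSubgroup p ≤ (frattini S).map S.subtype) :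
    Inner F := by
  have h1 := hyp_le_of_le_frattini_sup hS hF (V := ⊥) bot_le (h.trans le_sup_left)
    (fun s _ x hx => by rw [Subgroup.mem_bot.1 hx]; simp)
  intro P f hf
  obtain ⟨s, hs, e⟩ := exists_conj_mod_hyp hS hF hf
  refine M_inner_iff.2 ⟨hf.le, s, hs, fun x hx => ?_⟩
  exact (inv_mul_eq_one.1 (Subgroup.mem_bot.1 (h1 (e x hx)))).symm

theorem foc_le_of_sc {Q : Subgroup Ω} (hQ : F.StronglyClosed Q) (h1 : ⁅S, S⁆ ≤ Q)
    (htop : ∀ f, M F S f → M (innerFusionSystem S) S f) : F.focalSubgroup ≤ Q := by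
  have := sc_normal_subgroupOf hQ
  obtain ⟨D, hD⟩ := exists_isFactorSystem_mk' hQ
  have hθ := surjM_of_factor hS hF hD hQ
  have hker := factor_ker hD
  have hDs := hθ.saturated hS hF
  have := hθ.finite
  have hcomm : ∀ x ∈ S, ∀ s ∈ S, fn (QuotientGroup.mk' (Q.subgroupOf S)) (s * x * s⁻¹) =
      fn (QuotientGroup.mk' (Q.subgroupOf S)) x := by
    intro x hx s hs
    rw [eq_comm, fn_eq_iff hx (S.mul_mem (S.mul_mem hs hx) (S.inv_mem hs)), hker]
    apply h1
    have := Subgroup.commutator_mem_commutator (S.inv_mem hx) hs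
    simpa [commutatorElement_def, mul_assoc] using this
  have hn : D.IsNormal ⊤ := by
    refine Fus.isNormal_top_of_comm (hθ.isPGroup hS) hDs fun a ha b hb => ?_
    obtain ⟨x, hx, rfl⟩ := hθ.surj ha
    obtain ⟨y, hy, rfl⟩ := hθ.surj hb
    have h2 := hcomm y hy x hx
    rw [(homOn_fn _).map_conj hx hy] at h2
    exact mul_inv_eq_iff_eq_mul.1 h2
  refine foc_le_iff.2 fun P f hf x hx => ?_
  obtain ⟨f', hf', e⟩ := hθ.push P f hf
  obtain ⟨g', hg', e', -⟩ := isNormal_ext hn hf'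
  rw [sup_top_eq] at hg'
  obtain ⟨g, hg, e''⟩ := hθ.lift _ _ hg'
  rw [hθ.pre_top] at hg e''
  obtain ⟨-, s, hs, es⟩ := M_inner_iff.1 (htop g hg)
  have hxS := hf.le hx
  rw [← hker, ← fn_eq_iff hxS (hf.mem hx), ← e x hx, ← e' _ (mem_img_of_mem _ hx), e'' x hxS,
    es x hxS, hcomm x hxS s hs]

theorem inner_of_sc {Q : Subgroup Ω} (hQ : F.StronglyClosed Q) (h1 : ⁅S, S⁆ ≤ Q)
    (h2 : Q ≤ (frattini S).map S.subtype)
    (htop : ∀ f, M F S f → M (innerFusionSystem S) S f) : Inner F :=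
  inner_of_hyp_le_frattini hS hF ((hyp_le_foc F p).trans ((foc_le_of_sc hS hF hQ h1 htop).trans h2))

end Cfsg.Agent.ZJF
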