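import Cfsg.Agent.Lib.ZJ.Pair

/-! The configuration in Glauberman's theorem on weakly closed elements. -/

set_option autoImplicit false

namespace Cfsg.Agent.ZJ

open Subgroup Cfsg Tr
open scoped commutatorElement

variable {G : Type*} [Group G] {p : ℕ}

/-- `L` is minimal over the quadratic abelian subgroup `A` moving the point `T`. -/
structure Cfg (p : ℕ) (V L A T : Subgroup G) : Prop where
  norm : L ≤ normalizer (V : Set G)
  comm : V ≤ centralizer (V : Set G)
  pV : IsPGroup p V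
  TV : T ≤ V
  gen : ∀ U : Subgroup G, (∀ l ∈ L, cj l T ≤ U) → V ≤ U
  pA : IsPGroup p A
  commA : A ≤ centralizer (A : Set G)
  maxA : ∀ B : Subgroup G, IsPGroup p B → B ≤ centralizer (B : Set G) → Nat.card B ≤ Nat.card A
  quad : ⁅A, V⁆ ≤ centralizer (A : Set G)
  le : A ≤ L
  fix : T ≤ centralizer (A : Set G)
  uniq : ∀ l ∈ L, cj l T ≤ centralizer (A : Set G) → l ∈ normalizer (T : Set G)
  pc : ∀ X : Subgroup G, IsPGroup p X → X ≤ normalizer (T : Set G) → T ≤ centralizer (X : Set G)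
  min : ∀ K, A ≤ K → K ≤ L → K ≤ normalizer (T : Set G) ∨ K = L
  not_le : ¬ L ≤ normalizer (T : Set G)

theorem centralizer_sup' (A B : Subgroup G) :
    centralizer ((A ⊔ B : Subgroup G) : Set G) = centralizer (A : Set G) ⊓ centralizer (B : Set G) :=
  le_antisymm (le_inf (centralizer_le (le_sup_left : A ≤ A ⊔ B))
    (centralizer_le (le_sup_right : B ≤ A ⊔ B)))
    (le_centralizer_iff.1 (sup_le (le_centralizer_iff.1 inf_le_left)
      (le_centralizer_iff.1 inf_le_right)))

theorem mem_centralizer_zpowers {a v : G} :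
    v ∈ centralizer (zpowers a : Set G) ↔ a * v = v * a :=
  ⟨fun h => h a (mem_zpowers a), fun h => by
    rintro _ ⟨k, rfl⟩
    exact (Commute.zpow_left h k).eq⟩

namespace Cfg

variable {V L A B T T' : Subgroup G}

theorem conj (h : Cfg p V L A T) {g : G} (hg : g ∈ L) : Cfg p V L (cj g A) (cj g T) := by
  have hV : cj g V = V := cj_eq_of_mem_normalizer (h.norm hg)
  have hL : cj g L = L := cj_eq_of_mem hg
  refine ⟨h.norm, h.comm, h.pV, hV ▸ cj_mono g h.TV, fun U hU => h.gen U fun l hl => ?_,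
    isPGroup_cj g h.pA, ?_, fun B h1 h2 => (card_cj g A).symm ▸ h.maxA B h1 h2, ?_,
    cj_le_of_mem h.le hg, ?_, fun l hl hc => ?_, fun X hX hn => ?_, fun K h1 h2 => ?_, ?_⟩
  · have := hU (l * g⁻¹) (L.mul_mem hl (L.inv_mem hg))
    rwa [← cj_mul, inv_mul_cancel_right] at this
  · rw [centralizer_cj]; exact cj_mono g h.commA
  · rw [centralizer_cj, ← hV, ← cj_commutator]; exact cj_mono g h.quad
  · rw [centralizer_cj]; exact cj_mono g h.fix
  · rw [centralizer_cj, le_cj_iff_cj_inv_le, ← cj_mul, ← cj_mul] at hc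
    rw [normalizer_cj, mem_cj]
    exact h.uniq _ (L.mul_mem (L.mul_mem (L.inv_mem hg) hl) hg) hc
  · rw [normalizer_cj, le_cj_iff_cj_inv_le] at hn
    rw [cj_le_iff_le_cj_inv, ← centralizer_cj]
    exact h.pc _ (isPGroup_cj _ hX) hn
  · rcases h.min (cj g⁻¹ K) (cj_le_iff_le_cj_inv.1 h1) (cj_le_of_mem h2 (L.inv_mem hg)) with h3 | h3
    · left; rwa [normalizer_cj, le_cj_iff_cj_inv_le]
    · right; rw [← cj_cj_inv g K, h3, hL]
  · rw [normalizer_cj, le_cj_iff_cj_inv_le, cj_eq_of_mem (L.inv_mem hg)]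
    exact h.not_le

theorem sup_eq (h : Cfg p V L A T) {g : G} (hg : g ∈ L) (hn : g ∉ normalizer (T : Set G)) :
    A ⊔ cj g A = L := by
  refine (h.min _ le_sup_left (sup_le h.le (cj_le_of_mem h.le hg))).resolve_left fun h1 => hn ?_
  have := h.pc _ (isPGroup_cj g h.pA) (le_sup_right.trans h1)
  rw [centralizer_cj, le_cj_iff_cj_inv_le] at this
  simpa using inv_mem (h.uniq _ (L.inv_mem hg) this)

theorem conj_mem (h : Cfg p V L A T) {l v : G} (hl : l ∈ L) (hv : v ∈ V) : l * v * l⁻¹ ∈ V :=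
  conj_mem_of_mem_normalizer (h.norm hl) hv

theorem comm_mem (h : Cfg p V L A T) {l v : G} (hl : l ∈ L) (hv : v ∈ V) : ⁅l, v⁆ ∈ V :=
  V.mul_mem (h.conj_mem hl hv) (V.inv_mem hv)

theorem comm_mem_inf (h : Cfg p V L A T) {a v : G} (ha : a ∈ A) (hv : v ∈ V) :
    ⁅a, v⁆ ∈ V ⊓ centralizer (A : Set G) :=
  ⟨h.comm_mem (h.le ha) hv, h.quad (commutator_mem_commutator ha hv)⟩

theorem mul_comm (h : Cfg p V L A T) {x y : G} (hx : x ∈ V) (hy : y ∈ V) : x * y = y * x :=
  h.comm hy x hx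

variable [Finite G]

theorem le_normalizer (h : Cfg p V L A T) {U : Subgroup G} (h1 : V ⊓ centralizer (A : Set G) ≤ U)
    (h2 : U ≤ V) : A ≤ normalizer (U : Set G) := fun a ha =>
  mem_normalizer_of_forall fun u hu => by
    have := U.mul_mem (h1 (h.comm_mem_inf ha (h2 hu))) hu
    rwa [commutatorElement_def, inv_mul_cancel_right] at this

theorem sup_inf (h : Cfg p V L A T) (h' : Cfg p V L B T') (e : A ⊔ B = L) :
    (V ⊓ centralizer (A : Set G)) ⊔ (V ⊓ centralizer (B : Set G)) = V := by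
  have h1 : (V ⊓ centralizer (A : Set G)) ⊔ (V ⊓ centralizer (B : Set G)) ≤ V :=
    sup_le inf_le_left inf_le_left
  refine le_antisymm h1 (h.gen _ fun l hl => ?_)
  have h2 : L ≤ normalizer _ :=
    e ▸ sup_le (h.le_normalizer le_sup_left h1) (h'.le_normalizer le_sup_right h1)
  rw [← cj_eq_of_mem_normalizer (h2 hl)]
  exact cj_mono l ((le_inf h.TV h.fix).trans le_sup_left)

theorem exists_mul (h : Cfg p V L A T) (h' : Cfg p V L B T') (e : A ⊔ B = L) {v : G}
    (hv : v ∈ V) : ∃ x ∈ V ⊓ centralizer (A : Set G), ∃ y ∈ V ⊓ centralizer (B : Set G),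
      x * y = v := by
  rw [← h.sup_inf h' e] at hv
  exact (mem_sup_of_le_normalizer (inf_le_left.trans (h.comm.trans
    ((centralizer_le (inf_le_left : V ⊓ _ ≤ V)).trans (centralizer_le_normalizer _))))).1 hv

omit [Finite G] in
theorem mem_centralizer (h : Cfg p V L A T) {x v : G} (hx : x ∈ L)
    (hn : x ∉ normalizer (T : Set G)) (hv : v ∈ centralizer (A : Set G)) (e : x * v = v * x) :
    v ∈ centralizer (L : Set G) := by
  rcases h.min (L ⊓ centralizer {v}) (le_inf h.le fun a ha => mem_centralizer_singleton_iff.2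
    (hv a ha)) inf_le_left with h1 | h1
  · exact absurd (h1 ⟨hx, mem_centralizer_singleton_iff.2 e⟩) hn
  · exact fun l hl => mem_centralizer_singleton_iff.1 (inf_eq_left.1 h1 hl)

theorem mem_centralizer_of_comm (h : Cfg p V L A T) {a v : G} (ha : a ∈ A)
    (hn : a ∉ centralizer (V : Set G)) (hv : v ∈ V) (e : a * v = v * a) :
    v ∈ centralizer (A : Set G) := by
  have hz : zpowers a ≤ A := zpowers_le_of_mem ha
  obtain ⟨l, hl, h1⟩ : ∃ l ∈ L, ¬ cj l T ≤ centralizer (zpowers a : Set G) := by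
    by_contra hc
    push Not at hc
    exact hn (le_centralizer_iff.1 (h.gen _ hc) (mem_zpowers a))
  have h2 : l ∉ normalizer (T : Set G) := fun h2 =>
    h1 (by rw [cj_eq_of_mem_normalizer h2]; exact h.fix.trans (centralizer_le hz))
  have h3 : a ∉ normalizer (cj l T : Set G) := fun h3 =>
    h1 ((h.conj hl).pc _ (h.pA.to_le hz) (zpowers_le_of_mem h3))
  obtain ⟨x, hx, y, hy, rfl⟩ := h.exists_mul (h.conj hl) (h.sup_eq hl h2) hv
  refine mul_mem hx.2 (centralizer_le h.le ((h.conj hl).mem_centralizer (h.le ha) h3 hy.2 ?_))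
  rw [← mul_assoc, hx.2 a ha, mul_assoc, mul_assoc] at e
  exact mul_left_cancel e

theorem not_mem_normalizer (h : Cfg p V L A T) {g a : G} (hg : g ∈ L)
    (hn : g ∉ normalizer (T : Set G)) (ha : a ∈ A) (hc : a ∉ centralizer (V : Set G)) :
    a ∉ normalizer (cj g T : Set G) := fun h1 =>
  hn (h.uniq g hg fun _ ht => h.mem_centralizer_of_comm ha hc ((h.conj hg).TV ht)
    (mem_centralizer_zpowers.1 ((h.conj hg).pc _ (h.pA.to_le (zpowers_le_of_mem ha))
      (zpowers_le_of_mem h1) ht)))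

theorem mem_centralizer_of_mem (h : Cfg p V L A T) {g a v : G} (hg : g ∈ L)
    (hn : g ∉ normalizer (T : Set G)) (ha : a ∈ A) (hv : v ∈ centralizer (cj g A : Set G))
    (hvL : v ∉ centralizer (L : Set G)) (hc : ⁅a, v⁆ ∈ centralizer (cj g A : Set G)) :
    a ∈ centralizer (V : Set G) := by
  by_contra h1
  refine hvL ?_
  rw [← (h.conj hg).sup_eq (L.inv_mem (h.le ha)) (h.not_mem_normalizer hg hn (A.inv_mem ha)
    fun h2 => h1 (by simpa using inv_mem h2)), centralizer_sup']
  refine ⟨hv, ?_⟩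
  have := mul_mem hc hv
  rw [commutatorElement_def, inv_mul_cancel_right, ← mem_cj_inv, ← centralizer_cj] at this
  exact this

omit [Finite G] in
theorem comm_mul (h : Cfg p V L A T) {a b v : G} (ha : a ∈ A) (hb : b ∈ A) (hv : v ∈ V) :
    ⁅a * b, v⁆ = ⁅a, v⁆ * ⁅b, v⁆ := by
  rw [comm_mul_left, (h.comm_mem_inf hb hv).2 a ha, mul_inv_cancel_right,
    h.mul_comm (h.comm_mem (h.le hb) hv) (h.comm_mem (h.le ha) hv)]

theorem card_mul_le [Fact p.Prime] (h : Cfg p V L A T) :
    Nat.card (A ⊓ centralizer (V : Set G) : Subgroup G) * Nat.card V ≤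
      Nat.card A * Nat.card (V ⊓ centralizer (A : Set G) : Subgroup G) := by
  have h1 : V ≤ centralizer ((A ⊓ centralizer (V : Set G) : Subgroup G) : Set G) :=
    le_centralizer_iff.1 inf_le_right
  have h2 := h1.trans (centralizer_le_normalizer _)
  rw [← card_sup_mul_card_inf' h2]
  refine Nat.mul_le_mul (h.maxA _ (by
    rw [sup_comm]; exact isPGroup_sup_of_le_normalizer h.pV (h.pA.to_le inf_le_left) h2) ?_)
    (card_le_of_le (le_inf inf_le_right (inf_le_left.trans (inf_le_left.trans h.commA))))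
  rw [centralizer_sup']
  exact sup_le (le_inf (inf_le_left.trans (h.commA.trans
    (centralizer_le (inf_le_left : A ⊓ _ ≤ A)))) inf_le_right) (le_inf h1 h.comm)

theorem exists_comm [Fact p.Prime] (h : Cfg p V L A T) {g v x : G} (hg : g ∈ L)
    (hn : g ∉ normalizer (T : Set G)) (hv : v ∈ V ⊓ centralizer (cj g A : Set G))
    (hvL : v ∉ centralizer (L : Set G)) (hx : x ∈ V ⊓ centralizer (A : Set G)) :
    ∃ a ∈ A, ⁅a, v⁆⁻¹ * x ∈ V ⊓ centralizer (L : Set G) := by
  let φ : A →* G := MonoidHom.mk' (fun a => ⁅(a : G), v⁆) fun a b => h.comm_mul a.2 b.2 hv.1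
  have e := h.sup_eq hg hn
  have hD : (V ⊓ centralizer (A : Set G)) ⊓ (V ⊓ centralizer (cj g A : Set G)) =
      V ⊓ centralizer (L : Set G) := by
    rw [← e, centralizer_sup', ← inf_inf_distrib_left]
  have hR : φ.range ≤ V ⊓ centralizer (A : Set G) := by
    rintro _ ⟨a, rfl⟩; exact h.comm_mem_inf a.2 hv.1
  have key : ∀ a : A, φ a ∈ V ⊓ centralizer (L : Set G) → (a : G) ∈ centralizer (V : Set G) :=
    fun a ha => h.mem_centralizer_of_mem hg hn a.2 hv.2 hvL (hD ▸ ha).2.2
  have h1 : φ.range ⊓ (V ⊓ centralizer (L : Set G)) = ⊥ := eq_bot_iff.2 fun y ⟨⟨a, ea⟩, hy⟩ => by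
    subst ea
    exact commutatorElement_eq_one_iff_mul_comm.2 (key a hy v hv.1).symm
  have hn' : ∀ X Y : Subgroup G, X ≤ V → Y ≤ V → X ≤ normalizer (Y : Set G) := fun X Y hX hY =>
    hX.trans (h.comm.trans ((centralizer_le hY).trans (centralizer_le_normalizer _)))
  have h2 := Solv.card_sup_of_disjoint (hn' _ _ inf_le_left (hR.trans inf_le_left)) h1
  have h3 : Nat.card A ≤ Nat.card (A ⊓ centralizer (V : Set G) : Subgroup G) * Nat.card φ.range := by
    rw [← card_mul_index φ.ker, index_ker, ← card_map_of_injective A.subtype_injective]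
    refine Nat.mul_le_mul_right _ (card_le_of_le ?_)
    rintro _ ⟨a, ha, rfl⟩
    exact ⟨a.2, key a (by rw [show φ a = 1 from ha]; exact one_mem _)⟩
  have h4 := card_sup_mul_card_inf' (hn' _ _ (inf_le_left : V ⊓ centralizer (cj g A : Set G) ≤ V)
    (inf_le_left : V ⊓ centralizer (A : Set G) ≤ V))
  have h8 : Nat.card (V ⊓ centralizer (cj g A : Set G) : Subgroup G) =
      Nat.card (V ⊓ centralizer (A : Set G) : Subgroup G) := by
    rw [← card_cj g (V ⊓ centralizer (A : Set G)), cj_inf, cj_eq_of_mem_normalizer (h.norm hg),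
      centralizer_cj]
  rw [h.sup_inf (h.conj hg) e, hD, h8] at h4
  have h5 := h.card_mul_le
  have h6 : φ.range ⊔ V ⊓ centralizer (L : Set G) = V ⊓ centralizer (A : Set G) := by
    refine eq_of_le_of_card_ge (sup_le hR (inf_le_inf_left _ (centralizer_le h.le))) ?_
    rw [h2]
    generalize Nat.card φ.range = r at *
    have h7 : 0 < Nat.card (A ⊓ centralizer (V : Set G) : Subgroup G) *
      Nat.card (V ⊓ centralizer (A : Set G) : Subgroup G) := Nat.mul_pos Nat.card_pos Nat.card_pos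
    generalize Nat.card (A ⊓ centralizer (V : Set G) : Subgroup G) = a₀ at *
    generalize Nat.card (V ⊓ centralizer (A : Set G) : Subgroup G) = c at *
    generalize Nat.card (V ⊓ centralizer (L : Set G) : Subgroup G) = d at *
    refine Nat.le_of_mul_le_mul_left ?_ h7
    calc a₀ * c * c = a₀ * Nat.card V * d := by rw [mul_assoc, ← h4, mul_assoc]
      _ ≤ a₀ * r * c * d := Nat.mul_le_mul_right _ (h5.trans (Nat.mul_le_mul_right _ h3))
      _ = _ := by ring
  rw [← h6] at hx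
  obtain ⟨_, ⟨a, rfl⟩, d, hd, rfl⟩ :=
    (mem_sup_of_le_normalizer (hn' _ _ (hR.trans inf_le_left) inf_le_left)).1 hx
  exact ⟨a, a.2, by rwa [show ⁅(a : G), v⁆ = φ a from rfl, inv_mul_cancel_left]⟩

end Cfg

end Cfsg.Agent.ZJ
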