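import Cfsg.Agent.Lib.ZJ.Weak

/-! Glauberman's theorem on weakly closed elements. -/

set_option autoImplicit false

namespace Cfsg.Agent.ZJ

open Subgroup Cfsg Tr
open scoped commutatorElement

universe u

variable {G : Type*} [Group G] {p : ℕ}

/-- The subgroup generated by the members of `𝒜` inside `Y`. -/
def star (𝒜 : Set (Subgroup G)) (Y : Subgroup G) : Subgroup G := sSup {A | A ∈ 𝒜 ∧ A ≤ Y}

section Star

variable {𝒜 : Set (Subgroup G)} {A W X Y : Subgroup G}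

theorem star_le_iff : star 𝒜 Y ≤ X ↔ ∀ A ∈ 𝒜, A ≤ Y → A ≤ X :=
  ⟨fun h _ hA hAY => (le_sSup (s := {A | A ∈ 𝒜 ∧ A ≤ Y}) ⟨hA, hAY⟩).trans h,
    fun h => sSup_le fun A hA => h A hA.1 hA.2⟩

theorem star_le (Y : Subgroup G) : star 𝒜 Y ≤ Y := star_le_iff.2 fun _ _ h => h

theorem le_star (hA : A ∈ 𝒜) (h : A ≤ Y) : A ≤ star 𝒜 Y := star_le_iff.1 le_rfl A hA h

theorem star_mono (h : X ≤ Y) : star 𝒜 X ≤ star 𝒜 Y :=
  star_le_iff.2 fun _ hA hAX => le_star hA (hAX.trans h)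

theorem le_star_star (Y : Subgroup G) : star 𝒜 Y ≤ star 𝒜 (star 𝒜 Y) :=
  star_le_iff.2 fun _ hA h => le_star hA (le_star hA h)

theorem cj_star (hc : ∀ A ∈ 𝒜, ∀ g, cj g A ∈ 𝒜) (g : G) (Y : Subgroup G) :
    cj g (star 𝒜 Y) = star 𝒜 (cj g Y) := by
  have key : ∀ g Y, cj g (star 𝒜 Y) ≤ star 𝒜 (cj g Y) := fun g Y =>
    cj_le_iff_le_cj_inv.2 (star_le_iff.2 fun A hA h =>
      cj_le_iff_le_cj_inv.1 (le_star (hc A hA g) (cj_mono g h)))
  refine le_antisymm (key g Y) (le_cj_iff_cj_inv_le.2 ?_)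
  simpa only [cj_inv_cj] using key g⁻¹ (cj g Y)

theorem normalizer_le_normalizer_star (hc : ∀ A ∈ 𝒜, ∀ g, cj g A ∈ 𝒜) (Y : Subgroup G) :
    normalizer (Y : Set G) ≤ normalizer (star 𝒜 Y : Set G) := fun g hg => by
  rw [← cj_eq_iff, cj_star hc, cj_eq_iff.2 hg]

variable [Fact p.Prime] [Finite G]

theorem exists_mem_normalizer (hc : ∀ A ∈ 𝒜, ∀ g, cj g A ∈ 𝒜) (hY : IsPGroup p Y) (hW : W ≤ Y)
    (hs : W ≤ star 𝒜 W) (h : ¬ star 𝒜 Y ≤ W) :
    ∃ A ∈ 𝒜, A ≤ Y ∧ A ≤ normalizer (W : Set G) ∧ ¬ A ≤ W := by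
  by_contra hcon
  push Not at hcon
  have h1 : star 𝒜 (Y ⊓ normalizer (W : Set G)) = W := le_antisymm
    (star_le_iff.2 fun A hA h => hcon A hA (h.trans inf_le_left) (h.trans inf_le_right))
    (hs.trans (star_mono (le_inf hW Subgroup.le_normalizer)))
  rcases (inf_le_left : Y ⊓ normalizer (W : Set G) ≤ Y).eq_or_lt with e | hlt
  · exact h (e ▸ h1.le)
  · refine (lt_normalizer_inf hY hlt).not_ge fun x hx => ⟨hx.2, ?_⟩
    rw [← h1]
    exact normalizer_le_normalizer_star hc _ hx.1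

theorem le_of_pgroup {S C N : Subgroup G} (hS : SylowIn p S ⊤) (hSC : S ≤ C) (hCN : C ≤ N)
    (hNC : N ≤ normalizer (C : Set G)) (hX : IsPGroup p X) (h : X ≤ N) : X ≤ C := by
  obtain ⟨n, hn, h1⟩ := (hS.mono (hSC.trans hCN) le_top).exists_cj_le hX h
  rw [← cj_le_cj (g := n), cj_eq_of_mem_normalizer (hNC hn)]
  exact h1.trans hSC

theorem exists_min (hc : ∀ A ∈ 𝒜, ∀ g, cj g A ∈ 𝒜) {S C N : Subgroup G} (hS : SylowIn p S ⊤)
    (hSC : S ≤ C) (hCN : C ≤ N) (hNC : N ≤ normalizer (C : Set G))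
    (hst : normalizer (star 𝒜 S : Set G) ≤ N) (hN : N ≠ ⊤) :
    ∃ L A, A ∈ 𝒜 ∧ A ≤ L ∧ A ≤ C ∧ (∀ l ∈ L, A ≤ cj l C → l ∈ N) ∧
      (∀ K, A ≤ K → K ≤ L → K ≤ N ∨ K = L) ∧ ¬ L ≤ N := by
  have hSC' := hS.mono hSC le_top
  have hU : ∀ g, star 𝒜 S ≤ cj g C → g ∈ N := fun g hg => by
    obtain ⟨c, hc1, hc2⟩ := hSC'.exists_cj_le
      (isPGroup_cj g⁻¹ (hS.isPGroup.to_le (star_le S))) (le_cj_iff_cj_inv_le.1 hg)
    rw [← cj_mul] at hc2
    have h1 : c * g⁻¹ ∈ N := hst (mem_normalizer_of_cj_le ((cj_mono _ (le_star_star S)).trans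
      (by rw [cj_star hc]; exact star_mono hc2)))
    simpa using N.mul_mem (N.inv_mem h1) (hCN hc1)
  let P : Subgroup G → Prop := fun W =>
    IsPGroup p W ∧ W ≤ star 𝒜 W ∧ W ≤ C ∧ ∃ g, g ∉ N ∧ W ≤ cj g C
  obtain ⟨g₁, -, hg₁⟩ := SetLike.exists_of_lt (lt_top_iff_ne_top.2 hN)
  obtain ⟨W, hW, hmax⟩ := (Set.toFinite {W | P W}).exists_maximalFor
    (fun W : Subgroup G => Nat.card W) _ ⟨⊥, IsPGroup.of_bot, bot_le, bot_le, g₁, hg₁, bot_le⟩
  have key : ∀ W', P W' → Nat.card W' = Nat.card W → ∃ A ∈ 𝒜, IsPGroup p A ∧ A ≤ C ∧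
      A ≤ normalizer (W' : Set G) ∧ ∀ g, W' ≤ cj g C → A ≤ cj g C → g ∈ N := by
    rintro W' ⟨h1, h2, h3, g, hg, h4⟩ hcard
    obtain ⟨c, hc1, hc2⟩ := hSC'.exists_cj_le h1 h3
    rw [cj_le_iff_le_cj_inv] at hc2
    have hSp := isPGroup_cj c⁻¹ hS.isPGroup
    have hS1 : cj c⁻¹ S ≤ C := cj_le_of_mem hSC (C.inv_mem hc1)
    obtain ⟨A, hA, hAS, hAn, hAW⟩ := exists_mem_normalizer hc hSp hc2 h2 fun h5 => hg (by
      have h6 := h5.trans h4
      rw [← cj_star hc, ← le_cj_iff_cj_inv_le, ← cj_mul] at h6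
      simpa using N.mul_mem (N.inv_mem (hCN hc1)) (hU _ h6))
    refine ⟨A, hA, hSp.to_le hAS, hAS.trans hS1, hAn, fun g' h5 h6 => ?_⟩
    by_contra hg'
    have h7 : Nat.card W' < Nat.card (W' ⊔ A : Subgroup G) :=
      Solv.card_lt_of_lt (lt_of_le_of_ne le_sup_left fun e => hAW (e ▸ le_sup_right))
    refine h7.not_ge (hcard ▸ hmax ⟨hSp.to_le (sup_le hc2 hAS), sup_le
      (h2.trans (star_mono le_sup_left)) (le_star hA le_sup_right), sup_le h3 (hAS.trans hS1), g',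
      hg', sup_le h5 h6⟩ (hcard.ge.trans h7.le))
  obtain ⟨A, hA, -, hAC, hAn, hAu⟩ := key W hW rfl
  obtain ⟨h1, h2, h3, g, hg, h4⟩ := hW
  obtain ⟨B, -, hBp, -, hBn, hBu⟩ := key (cj g⁻¹ W) ⟨isPGroup_cj _ h1,
    by rw [← cj_star hc]; exact cj_mono _ h2, le_cj_iff_cj_inv_le.1 h4, g⁻¹,
    fun h => hg (by simpa using N.inv_mem h), cj_mono _ h3⟩ (card_cj _ _)
  have h5 : ¬ normalizer (W : Set G) ≤ N := fun h5 => by
    rw [normalizer_cj, ← cj_le_iff_le_cj_inv] at hBn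
    simpa using hg (by simpa using N.inv_mem (hBu g⁻¹ (cj_mono _ h3) (cj_le_iff_le_cj_inv.1
      (le_of_pgroup hS hSC hCN hNC (isPGroup_cj g hBp) (hBn.trans h5)))))
  obtain ⟨L, hL, hmin⟩ := (Set.toFinite {K : Subgroup G | A ≤ K ∧ K ≤ normalizer (W : Set G) ∧
    ¬ K ≤ N}).exists_minimal ⟨_, hAn, le_rfl, h5⟩
  refine ⟨L, A, hA, hL.1, hAC, fun l hl h => hAu l ?_ h, fun K h6 h7 => ?_, hL.2.2⟩
  · rw [← cj_eq_of_mem_normalizer (hL.2.1 hl)]; exact cj_mono l h3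
  · by_cases h8 : K ≤ N
    · exact Or.inl h8
    · exact Or.inr (le_antisymm h7 (hmin ⟨h6, h7.trans hL.2.1, h8⟩ h7))

end Star

theorem exists_cfg [Fact p.Prime] [Finite G] {S T : Subgroup G} (hS : SylowIn p S ⊤)
    (hTS : T ≤ centralizer (S : Set G)) (hT : T ≤ pCore p G)
    (hJ : normalizer (J S : Set G) ≤ normalizer (T : Set G)) (hn : ¬ T.Normal)
    (hmin : ∀ K, S ≤ K → K ≠ ⊤ → K ≤ normalizer (T : Set G)) :
    ∃ V L A, Cfg p V L A T := by
  have hOS : pCore p G ≤ S :=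
    hS.le_of_le_normalizer (Fit.isPGroup_pCore p G) le_top le_normalizer_of_normal
  have := normal_Zc (pCore p G)
  let V := normalClosure (T : Set G)
  have hTV : T ≤ V := le_normalClosure
  have hVZ : V ≤ Zc (pCore p G) :=
    normalClosure_le_normal (le_inf hT (hTS.trans (centralizer_le hOS)) : T ≤ Zc (pCore p G))
  have hVS : V ≤ S := hVZ.trans (inf_le_left.trans hOS)
  have hVc : V ≤ centralizer (V : Set G) :=
    hVZ.trans (inf_le_right.trans (centralizer_le (hVZ.trans inf_le_left)))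
  have hNt : normalizer (T : Set G) ≠ ⊤ := fun e => hn (normalizer_eq_top_iff.1 e)
  have hCV : centralizer (V : Set G) ≤ normalizer (T : Set G) :=
    (centralizer_le hTV).trans (centralizer_le_normalizer _)
  have hJV : ¬ J S ≤ centralizer (V : Set G) := fun h => hNt (eq_top_iff.2 fun g _ => by
    obtain ⟨c, hc, y, hy, rfl⟩ := (hS.inf_of_le_normalizer (N := centralizer (V : Set G)) le_top
      le_normalizer_of_normal).frattini (x := g) (by rw [normalizer_eq_top]; trivial)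
    refine mul_mem (hCV hc) (hJ ?_)
    rw [← J_eq_of_J_le (le_inf (J_le S) h) inf_le_left]
    exact normalizer_le_normalizer_J _ hy)
  rw [J_le_iff] at hJV
  push Not at hJV
  obtain ⟨A₁, hA₁, hA₁V⟩ := hJV
  have : IsMulCommutative V := isMulCommutative_iff.2 fun a ha b hb => hVc hb a ha
  obtain ⟨A₂, hA₂, hA₂V, hA₂n⟩ :=
    exists_quadratic_isMaxAb hS.isPGroup hVS le_normalizer_of_normal hA₁ hA₁V
  let 𝒜 : Set (Subgroup G) := {A | IsPGroup p A ∧ A ≤ centralizer (A : Set G) ∧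
    (∀ B : Subgroup G, IsPGroup p B → B ≤ centralizer (B : Set G) → Nat.card B ≤ Nat.card A) ∧
    ⁅A, V⁆ ≤ centralizer (A : Set G)}
  have hc : ∀ A ∈ 𝒜, ∀ g, cj g A ∈ 𝒜 := fun A hA g =>
    ⟨isPGroup_cj g hA.1, by rw [centralizer_cj]; exact cj_mono g hA.2.1,
      fun B h1 h2 => (card_cj g A).symm ▸ hA.2.2.1 B h1 h2,
      by rw [centralizer_cj, ← cj_normal g V, ← cj_commutator]; exact cj_mono g hA.2.2.2⟩
  have hA₂' : A₂ ∈ 𝒜 := by
    refine ⟨hS.isPGroup.to_le hA₂.le, hA₂.le_centralizer, fun B h1 h2 => ?_, ?_⟩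
    · obtain ⟨x, -, hx⟩ := hS.exists_cj_le h1 le_top
      rw [← card_cj x B]
      refine hA₂.max _ hx (isMulCommutative_iff.2 fun a ha b hb => ?_)
      exact (show cj x B ≤ centralizer (cj x B : Set G) by
        rw [centralizer_cj]; exact cj_mono x h2) hb a ha
    · rw [commutator_comm]
      exact (Solv.commutator_le_of_le_normalizer hA₂n |>.trans hA₂.le_centralizer).trans'
        (by rw [commutator_comm])
  have hSC : S ≤ centralizer (T : Set G) := le_centralizer_iff.1 hTS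
  have hNC := Solv.normalizer_le_normalizer_centralizer (T : Set G)
  obtain ⟨L, A, hA, hAL, hAC, hu, hm, hL⟩ := exists_min hc hS hSC (centralizer_le_normalizer _) hNC
    (hmin _ (Subgroup.le_normalizer.trans (normalizer_le_normalizer_star hc S)) fun e => by
      have := normalizer_eq_top_iff.1 e
      exact hA₂V ((le_star hA₂' hA₂.le).trans (le_centralizer_iff.1 (normalClosure_le_normal
        (le_centralizer_iff.1 ((star_le S).trans hSC) : T ≤ _))))) hNt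
  have hV₀ : (⨆ l ∈ L, cj l T) ≤ V := iSup₂_le fun l _ => by
    rw [← cj_normal l V]; exact cj_mono l hTV
  have hle : ∀ l ∈ L, cj l T ≤ ⨆ l ∈ L, cj l T := fun l hl => le_iSup₂ (f := fun l _ => cj l T) l hl
  refine ⟨⨆ l ∈ L, cj l T, L, A, fun g hg => mem_normalizer_of_cj_le (cj_le_iff_le_cj_inv.2
    (iSup₂_le fun l hl => cj_le_iff_le_cj_inv.1 (by rw [← cj_mul]; exact hle _ (L.mul_mem hg hl)))),
    hV₀.trans (hVc.trans (centralizer_le hV₀)), hS.isPGroup.to_le (hV₀.trans hVS),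
    by simpa only [cj_one] using hle 1 L.one_mem, fun U hU => iSup₂_le hU, hA.1, hA.2.1, hA.2.2.1,
    (commutator_mono le_rfl hV₀).trans hA.2.2.2, hAL, le_centralizer_iff.1 hAC,
    fun l hl h => hu l hl (by rw [← centralizer_cj]; exact le_centralizer_iff.1 h),
    fun X hX h => le_centralizer_iff.1
      (le_of_pgroup hS hSC (centralizer_le_normalizer _) hNC hX h), hm, hL⟩

theorem comm_aux {V : Type*} [CommGroup V] {α β : MulAut V} {z w d e : V} (h1 : α z = z)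
    (h2 : α w = z * d * w) (h3 : β w = w) (h4 : β z = w * e * z) (h5 : α d = d) (h6 : β d = d)
    (h7 : α e = e) (h8 : β e = e) : (α * β⁻¹ * α) ((α * β⁻¹ * α) z) = (d ^ 2 * z)⁻¹ := by
  have i3 : β⁻¹ w = w := by rw [MulAut.inv_apply, MulEquiv.symm_apply_eq, h3]
  have i6 : β⁻¹ d = d := by rw [MulAut.inv_apply, MulEquiv.symm_apply_eq, h6]
  have i8 : β⁻¹ e = e := by rw [MulAut.inv_apply, MulEquiv.symm_apply_eq, h8]
  have i4 : β⁻¹ z = (w * e)⁻¹ * z := by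
    rw [MulAut.inv_apply, MulEquiv.symm_apply_eq, map_mul, map_inv, map_mul, h3, h8, h4,
      inv_mul_cancel_left]
  simp only [MulAut.mul_apply, map_mul, map_inv, h1, h2, h5, h7, i3, i4, i6, i8]
  apply Additive.ofMul.injective
  simp only [ofMul_mul, ofMul_inv, ofMul_pow]
  abel

theorem intCast_eq_zero_of_zpow_mem [hp : Fact p.Prime] {D : Subgroup G} {x : G} (h1 : x ^ p ∈ D)
    (h2 : x ∉ D) {j : ℤ} (h3 : x ^ j ∈ D) : (j : ZMod p) = 0 := by
  rw [ZMod.intCast_zmod_eq_zero_iff_dvd]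
  by_contra h
  obtain ⟨u, v, e⟩ := (Nat.prime_iff_prime_int.1 hp.out).irreducible.coprime_iff_not_dvd.2 h
  refine h2 ?_
  rw [← zpow_one x, ← e, zpow_add, mul_comm u, mul_comm v, zpow_mul, zpow_mul, zpow_natCast]
  exact D.mul_mem (D.zpow_mem h1 u) (D.zpow_mem h3 v)

open scoped IsMulCommutative in
theorem Cfg.two [hp : Fact p.Prime] [Finite G] {V L A : Subgroup G} {z : G}
    (h : Cfg p V L A (zpowers z))
    (hz : ∀ l ∈ normalizer (zpowers z : Set G), l * z * l⁻¹ = z) :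
    p = 2 ∧ ZJF.QG p (ZJF.trH p).range G := by
  obtain ⟨g, hg, hn⟩ := SetLike.not_le_iff_exists.1 h.not_le
  have h' := h.conj hg
  have hzA : z ∈ V ⊓ centralizer (A : Set G) := ⟨h.TV (mem_zpowers z), h.fix (mem_zpowers z)⟩
  have hzL : z ∉ centralizer (L : Set G) := fun hc => h.not_le
    ((le_centralizer_iff.1 (zpowers_le_of_mem hc)).trans (centralizer_le_normalizer _))
  have hwB : g * z * g⁻¹ ∈ V ⊓ centralizer (cj g A : Set G) :=
    ⟨h'.TV (conj_mem_cj.2 (mem_zpowers z)), h'.fix (conj_mem_cj.2 (mem_zpowers z))⟩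
  have hwL : g * z * g⁻¹ ∉ centralizer (L : Set G) := fun hc => hzL (by
    rwa [← cj_eq_of_mem hg, centralizer_cj, conj_mem_cj] at hc)
  set w := g * z * g⁻¹ with hw
  obtain ⟨a, ha, had⟩ := h.exists_comm hg hn hwB hwL hzA
  obtain ⟨b, hb, hbd⟩ := h'.exists_comm (L.inv_mem hg) (fun hc => hn (by
    rw [normalizer_cj, mem_cj] at hc
    simpa using inv_mem hc)) (by rwa [cj_inv_cj]) hzL hwB
  set D := V ⊓ centralizer (L : Set G) with hD
  have hd := D.inv_mem had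
  have he := D.inv_mem hbd
  rw [mul_inv_rev, inv_inv] at hd he
  set d := z⁻¹ * ⁅a, w⁆ with hd'
  set e := w⁻¹ * ⁅b, z⁆ with he'
  have haL := h.le ha
  have hbL := h'.le hb
  have h1 : a * z * a⁻¹ = z := by rw [hzA.2 a ha, mul_inv_cancel_right]
  have h2 : a * w * a⁻¹ = z * d * w := by rw [hd', commutatorElement_def]; group
  have h3 : b * w * b⁻¹ = w := by rw [hwB.2 b hb, mul_inv_cancel_right]
  have h4 : b * z * b⁻¹ = w * e * z := by rw [he', commutatorElement_def]; group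
  have hc : ∀ l ∈ L, ∀ x ∈ D, l * x * l⁻¹ = x := fun l hl x hx => by
    rw [hx.2 l hl, mul_inv_cancel_right]
  have : IsMulCommutative V := isMulCommutative_iff.2 fun _ hx _ hy => h.mul_comm hx hy
  have h5 := congrArg Subtype.val (comm_aux (α := normalizerMonoidHom V ⟨a, h.norm haL⟩)
    (β := normalizerMonoidHom V ⟨b, h.norm hbL⟩) (z := ⟨z, hzA.1⟩) (w := ⟨w, hwB.1⟩) (d := ⟨d, hd.1⟩)
    (e := ⟨e, he.1⟩) (Subtype.ext h1) (Subtype.ext h2) (Subtype.ext h3) (Subtype.ext h4)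
    (Subtype.ext (hc a haL d hd)) (Subtype.ext (hc b hbL d hd)) (Subtype.ext (hc a haL e he))
    (Subtype.ext (hc b hbL e he)))
  rw [← map_inv, ← map_mul, ← map_mul, ← MulAut.mul_apply, ← map_mul] at h5
  have h6 : (a * b⁻¹ * a) * (a * b⁻¹ * a) * z * ((a * b⁻¹ * a) * (a * b⁻¹ * a))⁻¹ =
    (d ^ 2 * z)⁻¹ := h5
  have hs : a * b⁻¹ * a ∈ L := L.mul_mem (L.mul_mem haL (L.inv_mem hbL)) haL
  rw [hz _ (h.uniq _ (L.mul_mem hs hs) (by
    rw [cj_zpowers, h6, zpowers_le]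
    exact inv_mem (mul_mem (pow_mem (centralizer_le h.le hd.2) 2) hzA.2)))] at h6
  have h7 : z ^ 2 ∈ D := by
    rw [mul_inv_rev, eq_inv_mul_iff_mul_eq, ← sq] at h6
    rw [h6]; exact D.inv_mem (D.pow_mem hd 2)
  have hp2 : p = 2 := by
    by_contra hp2
    obtain ⟨k, hk⟩ := h.pV ⟨z, hzA.1⟩
    refine hzL (mem_of_pow_mem_of_coprime' (p := 2) (k := 1) h7 ?_).2
    exact Nat.Coprime.coprime_dvd_left (orderOf_dvd_of_pow_eq_one (congrArg Subtype.val hk))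
      (((Nat.coprime_primes hp.out Nat.prime_two).2 hp2).pow_left k)
  refine ⟨hp2, ?_⟩
  subst hp2
  have h8 : w ^ 2 ∈ D := by rwa [hw, conj_pow, hc g hg _ h7]
  have hXV : D ⊔ zpowers z ⊔ zpowers w ≤ V :=
    sup_le (sup_le inf_le_left h.TV) (zpowers_le_of_mem hwB.1)
  have hDX : D ≤ D ⊔ zpowers z ⊔ zpowers w := le_sup_left.trans le_sup_left
  have hzX : z ∈ D ⊔ zpowers z ⊔ zpowers w := mem_sup_left (mem_sup_right (mem_zpowers z))
  have hwX : w ∈ D ⊔ zpowers z ⊔ zpowers w := mem_sup_right (mem_zpowers w)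
  have hn' : ∀ X Y : Subgroup G, X ≤ V → Y ≤ V → X ≤ normalizer (Y : Set G) := fun X Y hX hY =>
    hX.trans (h.comm.trans ((centralizer_le hY).trans (centralizer_le_normalizer _)))
  have hnD : L ≤ normalizer (D : Set G) :=
    (le_centralizer_iff.1 (inf_le_right : D ≤ _)).trans (centralizer_le_normalizer _)
  have hnX : ∀ l ∈ L, l * z * l⁻¹ ∈ D ⊔ zpowers z ⊔ zpowers w →
      l * w * l⁻¹ ∈ D ⊔ zpowers z ⊔ zpowers w →
      l ∈ normalizer ((D ⊔ zpowers z ⊔ zpowers w : Subgroup G) : Set G) := fun l hl i1 i2 =>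
    mem_normalizer_of_cj_le (by
      rw [cj_sup, cj_sup, cj_eq_of_mem_normalizer (hnD hl), cj_zpowers, cj_zpowers]
      exact sup_le (sup_le hDX (zpowers_le_of_mem i1)) (zpowers_le_of_mem i2))
  have e1 : A ⊔ cj g A = L := h.sup_eq hg hn
  refine ZJF.qg_of_pair (D := D) (h.pV.to_le hXV) (fun x hx y hy => ?_) hzX hwX h7 h8
    (fun x hx => ?_) (fun i j hij => ?_)
    (hnX a haL (h1.symm ▸ hzX) (h2.symm ▸ mul_mem (mul_mem hzX (hDX hd)) hwX))
    (hnX b hbL (h4.symm ▸ mul_mem (mul_mem hwX (hDX he)) hzX) (h3.symm ▸ hwX)) (hnD haL) (hnD hbL)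
    (l := 1) (m := 1) (by simp) (by simp) (by simp [h1]) ?_ ?_ (by simp [h3])
  · rw [commutatorElement_eq_one_iff_mul_comm.2 (h.mul_comm (hXV hx) (hXV hy))]; exact D.one_mem
  · obtain ⟨y, hy, _, ⟨j, rfl⟩, rfl⟩ := (mem_sup_of_le_normalizer' (hn' _ _
      (zpowers_le_of_mem hwB.1) (le_sup_left.trans hXV))).1 hx
    obtain ⟨u, hu, _, ⟨i, rfl⟩, rfl⟩ := (mem_sup_of_le_normalizer' (hn' _ _ h.TV inf_le_left)).1 hy
    refine ⟨i, j, ?_⟩
    simp only
    rwa [mul_assoc u, h.mul_comm hu.1 (V.mul_mem (V.zpow_mem hzA.1 i) (V.zpow_mem hwB.1 j)),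
      inv_mul_cancel_left]
  · have i1 : w ^ j ∈ D := ⟨V.zpow_mem hwB.1 j, by
      rw [← e1, centralizer_sup']
      refine ⟨?_, Subgroup.zpow_mem _ hwB.2 j⟩
      simpa using Subgroup.mul_mem _ (Subgroup.inv_mem _ (Subgroup.zpow_mem _ hzA.2 i))
        (centralizer_le h.le hij.2)⟩
    exact ⟨intCast_eq_zero_of_zpow_mem h7 (fun hc => hzL hc.2) (by
      simpa using D.mul_mem hij (D.inv_mem i1)),
      intCast_eq_zero_of_zpow_mem h8 (fun hc => hwL hc.2) i1⟩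
  · rwa [h2, zpow_one, mul_assoc z, h.mul_comm hd.1 hwB.1, ← mul_assoc z w d, inv_mul_cancel_left]
  · rwa [h4, zpow_one, h.mul_comm (V.mul_mem hwB.1 he.1) hzA.1, ← mul_assoc z w e,
      inv_mul_cancel_left]

theorem exists_min_over [Finite G] (S : Subgroup G) {N : Subgroup G} (hN : N ≠ ⊤) :
    ∃ H, S ≤ H ∧ ¬ H ≤ N ∧ ∀ K : Subgroup H, S.subgroupOf H ≤ K → K ≠ ⊤ → K ≤ N.subgroupOf H := by
  obtain ⟨H, hH, hmin⟩ := (Set.toFinite {K : Subgroup G | S ≤ K ∧ ¬ K ≤ N}).exists_minimal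
    ⟨⊤, le_top, fun h => hN (top_le_iff.1 h)⟩
  refine ⟨H, hH.1, hH.2, fun K h1 h2 => ?_⟩
  by_contra h3
  refine h2 (eq_top_iff.2 fun x _ => ?_)
  obtain ⟨y, hy, e⟩ := hmin (y := K.map H.subtype) ⟨fun s hs => ⟨⟨s, hH.1 hs⟩, h1 hs, rfl⟩,
    fun h4 => h3 fun y hy => h4 ⟨y, hy, rfl⟩⟩ (map_subtype_le K) x.2
  rwa [← show y = x from Subtype.ext e]

/-- Glauberman's theorem. -/
theorem conj_eq_of_normalizer_J [Fact p.Prime] [Finite G]
    (hp : p ≠ 2 ∨ ¬ Involves (qd p) G) {S : Subgroup G} (hS : SylowIn p S ⊤) {z : G}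
    (hz : z ∈ pCore p G) (hzS : ∀ s ∈ S, s * z = z * s)
    (hJ : ∀ g ∈ normalizer (J S : Set G), g * z * g⁻¹ = z) (g : G) : g * z * g⁻¹ = z := by
  by_contra hg
  have hOS : pCore p G ≤ S :=
    hS.le_of_le_normalizer (Fit.isPGroup_pCore p G) le_top le_normalizer_of_normal
  have hSC : S ≤ centralizer (zpowers z : Set G) :=
    le_centralizer_iff.1 (zpowers_le_of_mem hzS)
  have hN : ∀ l ∈ normalizer (zpowers z : Set G), l * z * l⁻¹ = z := fun l hl => by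
    obtain ⟨c, hc, y, hy, rfl⟩ := (hS.mono hSC le_top).frattini
      (Solv.normalizer_le_normalizer_centralizer _ hl)
    calc c * y * z * (c * y)⁻¹ = c * (y * z * y⁻¹) * c⁻¹ := by group
      _ = z := by rw [hJ y (normalizer_le_normalizer_J S hy), ← hc z (mem_zpowers z),
        mul_inv_cancel_right]
  obtain ⟨H, hSH, hH, hmin⟩ := exists_min_over S (N := normalizer (zpowers z : Set G))
    fun e => hg (hN g (e ▸ trivial))
  have hzH : z ∈ H := hSH (hOS hz)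
  have e1 : zpowers (⟨z, hzH⟩ : H) = (zpowers z).subgroupOf H := by
    rw [← comap_map_eq_self_of_injective H.subtype_injective (zpowers _), MonoidHom.map_zpowers]
    rfl
  have e2 : normalizer (zpowers (⟨z, hzH⟩ : H) : Set H) =
      (normalizer (zpowers z : Set G)).subgroupOf H := by
    rw [e1, subgroupOf_normalizer_eq (zpowers_le_of_mem hzH)]
  obtain ⟨V, L, A, h⟩ := exists_cfg (T := zpowers (⟨z, hzH⟩ : H))
    (hS.mono hSH le_top).subgroupOf_top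
    (zpowers_le_of_mem fun s hs => Subtype.ext (hzS s hs))
    (zpowers_le_of_mem (Fit.pCore_subgroupOf_le H hz)) (fun x hx => by
      rw [J_subgroupOf hSH, ← subgroupOf_normalizer_eq ((J_le S).trans hSH)] at hx
      refine centralizer_le_normalizer _ (le_centralizer_iff.1 (zpowers_le_of_mem ?_)
        (mem_zpowers x))
      exact mem_centralizer_zpowers.2 (Subtype.ext (mul_inv_eq_iff_eq_mul.1 (hJ x hx))))
    (fun hn => hH fun x hx => by
      have : (⟨x, hx⟩ : H) ∈ normalizer (zpowers (⟨z, hzH⟩ : H) : Set H) := by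
        rw [normalizer_eq_top]; trivial
      rwa [e2] at this) (e2 ▸ hmin)
  obtain ⟨h2, hq⟩ := h.two fun l hl => Subtype.ext (hN l (by rwa [e2] at hl))
  obtain ⟨q, ζ, hQ⟩ := ZJF.exists_qData p
  exact hp.elim (fun h => h h2) fun h => h
    (ZJF.Involves.of_inj (hQ.involves_of_qg hq) H.subtype H.subtype_injective)

end Cfsg.Agent.ZJ
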